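import Groth.Agent.Lib.Poincare.Regular
import Groth.Agent.Lib.AVCat.Basic
import Groth.Prelude.Def_Red

/-!
# Points of a base change along a field extension
-/

set_option autoImplicit false
set_option linter.all false
set_option backward.isDefEq.respectTransparency false
set_option maxHeartbeats 1000000

universe u

open CategoryTheory CategoryTheory.Limits MonoidalCategory CartesianMonoidalCategory MonObj AlgebraicGeometry
open scoped CategoryTheory.Obj

noncomputable section

namespace GrothLib.ChowVar

variable {S S' : Scheme.{u}} (e : S' ⟶ S)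

/-- Points of the base change are points of the original. -/
def bcPts {A : Over S} [GrpObj A] (T : Over S') : ((Over.map e).obj T ⟶ A) ≃* (T ⟶ (Over.pullback e).obj A) :=
  { (Over.mapPullbackAdj e).homEquiv T A with
    map_mul' := fun x y => by
      show (Over.mapPullbackAdj e).homEquiv T A (x * y) =
        (Over.mapPullbackAdj e).homEquiv T A x * (Over.mapPullbackAdj e).homEquiv T A y
      rw [Adjunction.homEquiv_unit, Adjunction.homEquiv_unit, Adjunction.homEquiv_unit,
        show (Over.pullback e).map (x * y) = (Over.pullback e).map x * (Over.pullback e).map y from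
          map_mul (Functor.homMonoidHom (Over.pullback e)) x y, MonObj.comp_mul] }

theorem bcPts_comp {A B : Over S} [GrpObj A] [GrpObj B] (T : Over S') (x : (Over.map e).obj T ⟶ A) (f : A ⟶ B) :
    bcPts e T (x ≫ f) = bcPts e T x ≫ (Over.pullback e).map f :=
  (Over.mapPullbackAdj e).homEquiv_naturality_right x f

theorem bcPts_precomp {A : Over S} [GrpObj A] {T T' : Over S'} (t : T' ⟶ T) (x : (Over.map e).obj T ⟶ A) :
    bcPts e T' ((Over.map e).map t ≫ x) = t ≫ bcPts e T x :=
  (Over.mapPullbackAdj e).homEquiv_naturality_left t x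

theorem bcPts_left_fst {A : Over S} [GrpObj A] (T : Over S') (x : (Over.map e).obj T ⟶ A) :
    (bcPts e T x).left ≫ pullback.fst A.hom e = x.left := by
  have h := congrArg CommaMorphism.left ((bcPts e T).symm_apply_apply x)
  refine Eq.trans ?_ h
  show _ = (((Over.mapPullbackAdj e).homEquiv T A).symm (bcPts e T x)).left
  rw [Adjunction.homEquiv_counit]
  simp [Over.mapPullbackAdj]

theorem bcPts_left_snd {A : Over S} [GrpObj A] (T : Over S') (x : (Over.map e).obj T ⟶ A) :
    (bcPts e T x).left ≫ pullback.snd A.hom e = T.hom := Over.w (bcPts e T x)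

variable {k : Type u} [Field k]

/-- Counting torsion points determines the dimension. -/
theorem le_of_tors_bound {b c R : ℕ} {P : ℕ → Prop} (hP : ∀ N, ∃ n, N < n ∧ P n)
    (h : ∀ n, P n → n ^ (2 * b) ≤ R * n ^ (2 * c)) : b ≤ c := by
  by_contra hbc
  obtain ⟨n, hn, hPn⟩ := hP R
  have h1 : n ^ (2 * c) * n ≤ n ^ (2 * b) := by
    rw [← pow_succ]
    exact Nat.pow_le_pow_right (by omega) (by omega)
  have h2 : n ^ (2 * c) * n ≤ n ^ (2 * c) * R := by rw [Nat.mul_comm (n ^ (2 * c)) R]; exact h1.trans (h n hPn)
  have := Nat.le_of_mul_le_mul_left h2 (Nat.pow_pos (by omega))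
  omega

theorem exists_lt_invertible (k : Type u) [Field k] (N : ℕ) : ∃ n, N < n ∧ (n : k) ≠ 0 := by
  obtain ⟨l, hl, hlk⟩ := HomFG.exists_prime_ne_zero k
  exact ⟨l ^ N, Nat.lt_pow_self hl.one_lt, by rw [Nat.cast_pow]; exact pow_ne_zero _ hlk⟩

theorem epi_overHomMk_of_field {F Ω : Type u} [Field F] [Field Ω] (r : Spec (CommRingCat.of Ω) ⟶ Spec (CommRingCat.of F))
    {S : Scheme.{u}} {a : Spec (CommRingCat.of F) ⟶ S} {b : Spec (CommRingCat.of Ω) ⟶ S} (h : r ≫ a = b) :
    Epi (Over.homMk r h : Over.mk b ⟶ Over.mk a) := by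
  haveI : Flat r := AbTors.flat_of_field r
  haveI : Surjective r := AbTors.surjective_of_field r
  haveI : Epi ((Over.forget S).map (Over.homMk r h : Over.mk b ⟶ Over.mk a)) := by
    change Epi r
    infer_instance
  exact (Over.forget S).epi_of_epi_map inferInstance

/-- An algebraically closed point lands in a closed subscheme as soon as its image does. -/
theorem exists_lift_point {Ω : Type u} [Field Ω] {A B : Over (Spec (CommRingCat.of k))} (i : B ⟶ A)
    [IsClosedImmersion i.left] {σ : Spec (CommRingCat.of Ω) ⟶ Spec (CommRingCat.of k)} (y : Over.mk σ ⟶ A)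
    (h : y.left (IsLocalRing.closedPoint Ω) ∈ Set.range i.left) : ∃ b : Over.mk σ ⟶ B, b ≫ i = y := by
  haveI : IsReduced (Over.mk σ).left := inferInstanceAs (IsReduced (Spec (CommRingCat.of Ω)))
  obtain ⟨d, hd⟩ := RedSub.exists_lift y.left i.left (by
    rintro _ ⟨z, rfl⟩
    haveI : Subsingleton ↥(Over.mk σ).left := inferInstanceAs (Subsingleton ↥(Spec (CommRingCat.of Ω)))
    rwa [Subsingleton.elim z (IsLocalRing.closedPoint Ω)])
  exact ⟨Over.homMk d (by rw [show B.hom = i.left ≫ A.hom from (Over.w i).symm, reassoc_of% hd, Over.w y]),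
    Over.OverMorphism.ext hd⟩

end GrothLib.ChowVar
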